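import Cfsg.Agent.Lib.AlperinDade.Basic
import Cfsg.Agent.Lib.Char.FrobSchur
import Cfsg.Agent.Lib.Contrib.Proj
import Cfsg.Agent.Lib.CharZeros.Gallagher

/-!
# The abelian step: `G / N` abelian.
-/

set_option linter.unusedSectionVars false
set_option autoImplicit false
set_option linter.style.haveILetI false

namespace Cfsg.Agent.Lib.AlperinDade.Abelian

open Cfsg
open Cfsg.Agent.Lib.Blocks.Local Cfsg.Agent.Lib.AlperinDade.Basic
open Cfsg.Agent.Lib.Char.Basic Cfsg.Agent.Lib.Char.Ortho Cfsg.Agent.Lib.Char.Complete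
open Cfsg.Agent.Lib.Char.Induced Cfsg.Agent.Lib.Char.Linear Cfsg.Agent.Lib.CharZeros.Gallagher
open scoped ComplexConjugate

universe u

variable {G : Type u} [Group G] [Fintype G] {M : Ideal AlgInt} {p : ℕ}

/-- Frobenius reciprocity at the identity. -/
theorem sum_deg_mult {N : Subgroup G} [Fintype N] [Fintype (IrrCharacter G)] (θ : IrrCharacter N)
    (n : IrrCharacter G → ℕ)
    (hn : ∀ ξ : IrrCharacter G, classInner (fun k : N => (ξ : G → ℂ) k) (θ : N → ℂ) = n ξ) :
    ∑ ξ : IrrCharacter G, charDegree (ξ : G → ℂ) * n ξ = N.index * charDegree (θ : N → ℂ) := by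
  have hF := Cfsg.Agent.Lib.Char.Induced.isClassFunction_indFun N (θ : N → ℂ)
  have h1 := congrFun (classFunction_eq_sum hF) 1
  simp only [Finset.sum_apply, Pi.smul_apply, smul_eq_mul] at h1
  rw [indFun_one] at h1
  have h2 : ∀ ξ : IrrCharacter G, classInner (indFun N (θ : N → ℂ)) (ξ : G → ℂ) = n ξ := by
    intro ξ
    rw [← Cfsg.Agent.Lib.Contrib.Proj.conj_classInner,
      classInner_indFun_right _ _ _ (isClassFunction_of_isIrrCharacter ξ.2), hn, Complex.conj_natCast]
  simp only [h2, Cfsg.Agent.Lib.Blocks.Heights.irr_one_eq] at h1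
  have h3 : ((N.index * charDegree (θ : N → ℂ) : ℕ) : ℂ) =
      ((∑ ξ : IrrCharacter G, charDegree (ξ : G → ℂ) * n ξ : ℕ) : ℂ) := by
    push_cast
    rw [Cfsg.Agent.Lib.Char.Degree.charDegree_natCast (isCharacter_of_isIrrCharacter θ.2), h1]
    exact Finset.sum_congr rfl fun ξ _ => mul_comm _ _
  exact_mod_cast h3.symm

/-- The abelian step. -/
theorem ext_of_abelian (hM : IsPModular p M) {N P : Subgroup G} [hN : N.Normal]
    (hidx : ¬ p ∣ N.index) (hP : ¬ p ∣ P.index)
    (hsup : N ⊔ Subgroup.centralizer (P : Set G) = ⊤)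
    (hcomm : ∀ a b : G ⧸ N, a * b = b * a) (θ : IrrCharacter N) (hθ : θ ∈ principalBlock M N) :
    ∃ χ : IrrCharacter G, χ ∈ principalBlock M G ∧ ∀ n : N, (χ : G → ℂ) n = (θ : N → ℂ) n := by
  classical
  haveI := isPrime_of_pModular hM
  letI : Fintype N := Fintype.ofFinite N
  letI : Fintype (G ⧸ N) := Fintype.ofFinite _
  have := finite_irrCharacter (G := G)
  letI := Fintype.ofFinite (IrrCharacter G)
  have := finite_irrCharacter (G := N)
  letI := Fintype.ofFinite (IrrCharacter N)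
  have := finite_irrCharacter (G := G ⧸ N)
  letI := Fintype.ofFinite (IrrCharacter (G ⧸ N))
  -- the covering theorem
  let oneG : IrrCharacter G := ⟨fun _ => 1, Cfsg.Agent.Lib.Char.Burnside.isIrrCharacter_one⟩
  let oneN : IrrCharacter N := ⟨fun _ => 1, Cfsg.Agent.Lib.Char.Burnside.isIrrCharacter_one⟩
  have hB : IsPBlock M (principalBlock M G) := ⟨oneG, rfl⟩
  have hb : IsPBlock M (principalBlock M N) := ⟨oneN, rfl⟩
  have hoG : oneG ∈ principalBlock M G := Cfsg.Agent.Lib.Blocks.Central.mem_blockOf_self oneG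
  have hoN : oneN ∈ principalBlock M N := Cfsg.Agent.Lib.Blocks.Central.mem_blockOf_self oneN
  have hone : classInner (fun n : N => (oneG : G → ℂ) n) (oneN : N → ℂ) ≠ 0 := by
    have h1 : classInner (fun n : N => (oneG : G → ℂ) n) (oneN : N → ℂ) = 1 :=
      classInner_self_of_isIrr oneN.2
    rw [h1]
    exact one_ne_zero
  obtain ⟨χ, hχ, hcon⟩ := Cfsg.Agent.Lib.Blocks.Cover.exists_constituent_of_covers hB hb
    ⟨oneG, hoG, oneN, hoN, hone⟩ hθ
  refine ⟨χ, hχ, ?_⟩
  -- multiplicities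
  have hn0 := fun ξ : IrrCharacter G =>
    exists_nat_classInner (isCharacter_restrict N (isCharacter_of_isIrrCharacter ξ.2))
      (isCharacter_of_isIrrCharacter θ.2)
  choose n hn using hn0
  have hsum := sum_deg_mult θ n hn
  -- the twists
  let tw : IrrCharacter (G ⧸ N) → IrrCharacter G := fun φ =>
    ⟨fun g => ((φ : G ⧸ N → ℂ) ∘ QuotientGroup.mk' N) g * (χ : G → ℂ) g, by
      refine isIrrCharacter_mul_linear
        (isCharacter_comp _ (isCharacter_of_isIrrCharacter φ.2)) ?_ χ.2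
      change (φ : G ⧸ N → ℂ) (QuotientGroup.mk' N 1) = 1
      rw [map_one]
      exact isIrr_deg_one_of_comm hcomm φ.2⟩
  have hφ1 : ∀ φ : IrrCharacter (G ⧸ N), (φ : G ⧸ N → ℂ) 1 = 1 := fun φ =>
    isIrr_deg_one_of_comm hcomm φ.2
  have htw_inj : Function.Injective tw := by
    intro φ φ' h
    have h' : ∀ g, (φ : G ⧸ N → ℂ) (QuotientGroup.mk' N g) * (χ : G → ℂ) g =
        (φ' : G ⧸ N → ℂ) (QuotientGroup.mk' N g) * (χ : G → ℂ) g := fun g =>
      congrFun (congrArg Subtype.val h) g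
    have hφ' := linear_mul_conj (isCharacter_of_isIrrCharacter φ'.2) (hφ1 φ')
    have hν : IsIrrCharacter (G ⧸ N) (fun a => (φ : G ⧸ N → ℂ) a * conj ((φ' : G ⧸ N → ℂ) a)) :=
      isIrrCharacter_mul_linear (isCharacter_of_isIrrCharacter φ.2) (hφ1 φ)
        (Cfsg.Agent.Lib.Char.FrobSchur.isIrr_conj φ'.2)
    have he : (χ : G → ℂ) = (χ : G → ℂ) *
        ((fun a => (φ : G ⧸ N → ℂ) a * conj ((φ' : G ⧸ N → ℂ) a)) ∘ QuotientGroup.mk' N) := by
      funext g
      simp only [Pi.mul_apply, Function.comp_apply]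
      have e1 := hφ' (QuotientGroup.mk' N g)
      have e2 := h' g
      linear_combination (-(χ : G → ℂ) g) * e1 - conj ((φ' : G ⧸ N → ℂ) (QuotientGroup.mk' N g)) * e2
    have hone' := phi_eq_one hM hidx hP hsup hχ hχ hν he
    apply Subtype.ext
    funext a
    have e1 := congrFun hone' a
    have e2 := hφ' a
    linear_combination ((φ' : G ⧸ N → ℂ) a) * e1 - ((φ : G ⧸ N → ℂ) a) * e2
  have hdeg : ∀ φ, charDegree (tw φ : G → ℂ) = charDegree (χ : G → ℂ) := by
    intro φ
    unfold charDegree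
    congr 2
    change (φ : G ⧸ N → ℂ) (QuotientGroup.mk' N 1) * (χ : G → ℂ) 1 = _
    rw [map_one, hφ1, one_mul]
  have hntw : ∀ φ, n (tw φ) = n χ := by
    intro φ
    have h1 : (fun k : N => (tw φ : G → ℂ) k) = fun k : N => (χ : G → ℂ) k := by
      funext k
      change (φ : G ⧸ N → ℂ) (QuotientGroup.mk' N k) * (χ : G → ℂ) k = _
      have : QuotientGroup.mk' N (k : G) = 1 := (QuotientGroup.eq_one_iff _).mpr k.2
      rw [this, hφ1, one_mul]
    have h2 := hn (tw φ)
    rw [h1, hn χ] at h2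
    exact_mod_cast h2.symm
  have hcard : Fintype.card (IrrCharacter (G ⧸ N)) = N.index := by
    rw [← Nat.card_eq_fintype_card, card_irr_eq_card_conjClasses, card_conjClasses_of_comm hcomm,
      Subgroup.index_eq_card]
  have hbound : N.index * (charDegree (χ : G → ℂ) * n χ) ≤ N.index * charDegree (θ : N → ℂ) := by
    rw [← hsum, ← hcard, ← smul_eq_mul, ← Finset.card_univ, ← Finset.sum_const]
    calc ∑ φ : IrrCharacter (G ⧸ N), charDegree (χ : G → ℂ) * n χ
        = ∑ φ : IrrCharacter (G ⧸ N), charDegree (tw φ : G → ℂ) * n (tw φ) := by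
          refine Finset.sum_congr rfl fun φ _ => ?_
          rw [hdeg, hntw]
      _ = ∑ ξ ∈ Finset.univ.image tw, charDegree (ξ : G → ℂ) * n ξ := by
          rw [Finset.sum_image fun a _ b _ h => htw_inj h]
      _ ≤ _ := Finset.sum_le_sum_of_subset (Finset.subset_univ _)
  have hidx0 : 0 < N.index := Nat.pos_of_ne_zero Subgroup.index_ne_zero_of_finite
  have hbound' : charDegree (χ : G → ℂ) * n χ ≤ charDegree (θ : N → ℂ) :=
    Nat.le_of_mul_le_mul_left hbound hidx0
  obtain ⟨n', hn', hdegsum⟩ := Cfsg.Agent.Lib.Blocks.Lambda.exists_mult (N := N) χ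
  have hnn : n' θ = n χ := by
    have := (hn' θ).symm.trans (hn χ)
    exact_mod_cast this
  have hm : n χ ≠ 0 := by
    intro h
    apply hcon
    rw [hn χ, h]
    simp
  have hθpos : 0 < charDegree (θ : N → ℂ) := Cfsg.Agent.Lib.Char.Degree.charDegree_pos θ.2
  have hle1 : charDegree (θ : N → ℂ) * n χ ≤ charDegree (χ : G → ℂ) := by
    rw [hdegsum, ← hnn]
    exact Finset.single_le_sum (f := fun θ' : IrrCharacter N => charDegree (θ' : N → ℂ) * n' θ')
      (fun _ _ => Nat.zero_le _) (Finset.mem_univ θ)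
  have hm1 : n χ = 1 := by
    by_contra hne
    have h2 : 2 ≤ n χ := by omega
    nlinarith [Nat.mul_le_mul_right (n χ) hle1]
  have hdegeq : charDegree (χ : G → ℂ) = charDegree (θ : N → ℂ) := by
    rw [hm1, mul_one] at hbound' hle1
    omega
  -- the other constituents vanish
  have hother : ∀ θ' : IrrCharacter N, θ' ≠ θ → n' θ' = 0 := by
    intro θ' hne
    by_contra h0
    have h1 : charDegree (θ : N → ℂ) * n' θ + charDegree (θ' : N → ℂ) * n' θ' ≤
        ∑ ψ : IrrCharacter N, charDegree (ψ : N → ℂ) * n' ψ := by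
      rw [← Finset.sum_pair (f := fun ψ : IrrCharacter N => charDegree (ψ : N → ℂ) * n' ψ) hne.symm]
      exact Finset.sum_le_sum_of_subset (Finset.subset_univ _)
    have hθ'pos : 0 < charDegree (θ' : N → ℂ) := Cfsg.Agent.Lib.Char.Degree.charDegree_pos θ'.2
    have h3 : 0 < charDegree (θ' : N → ℂ) * n' θ' := Nat.mul_pos hθ'pos (Nat.pos_of_ne_zero h0)
    rw [← hdegsum, hdegeq, hnn, hm1, mul_one] at h1
    omega
  have hcf : IsClassFunction N (fun k : N => (χ : G → ℂ) k) :=
    isClassFunction_of_isCharacter (isCharacter_restrict N (isCharacter_of_isIrrCharacter χ.2))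
  have hexp := classFunction_eq_sum hcf
  intro k
  have h1 := congrFun hexp k
  simp only [Finset.sum_apply, Pi.smul_apply, smul_eq_mul] at h1
  rw [h1, Finset.sum_eq_single θ]
  · rw [hn' θ, hnn, hm1]
    simp
  · intro θ' _ hne
    rw [hn' θ', hother θ' hne]
    simp
  · intro h
    exact absurd (Finset.mem_univ θ) h

end Cfsg.Agent.Lib.AlperinDade.Abelian
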