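import Mathlib
import Cfsg.Agent.Lib.Blocks.Lambda
import Cfsg.Agent.Lib.BlockH.Transport
import Cfsg.Agent.Lib.CharDeep.GallagherExt
import Cfsg.Agent.Lib.Char.Brauer
import Cfsg.Agent.Lib.Char.Extend
import Cfsg.Agent.Lib.Frobenius.Theorem

/-!
# Restriction of principal blocks to normal subgroups of `p'`-index supplemented by `C_G(P)`

Basic lemmas: comparison of central characters on subgroups containing the normal subgroup, and the
separation lemma: `χ, χ φ` in the principal block force `φ = 1`.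
-/

set_option linter.unusedSectionVars false
set_option autoImplicit false
set_option linter.style.haveILetI false

namespace Cfsg.Agent.Lib.AlperinDade.Basic

open Cfsg
open Cfsg.Agent.Lib.Blocks.Local
open Cfsg.Agent.Lib.Char.Basic Cfsg.Agent.Lib.Char.Ortho Cfsg.Agent.Lib.Char.Complete
open scoped ComplexConjugate

universe u

section Index

variable {G : Type u} [Group G] [Finite G]

/-- Centralizers in a subgroup. -/
theorem centralizer_coe_eq (L : Subgroup G) (g : L) :
    Subgroup.centralizer ({g} : Set L) = (Subgroup.centralizer ({(g : G)} : Set G)).subgroupOf L := by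
  ext x
  simp only [Subgroup.mem_centralizer_iff, Set.mem_singleton_iff, forall_eq, Subgroup.mem_subgroupOf]
  constructor
  · intro h
    exact congrArg Subtype.val h
  · intro h
    exact Subtype.ext h

theorem index_relation {p : ℕ} (hp0 : p.Prime) (N L : Subgroup G) [hN : N.Normal] (hNL : N ≤ L)
    (hp : ¬ p ∣ N.index) (g : L) :
    ∃ c : ℕ, ¬ p ∣ c ∧ (Subgroup.centralizer ({(g : G)} : Set G)).index * c =
      (Subgroup.centralizer ({g} : Set L)).index * L.index := by
  set C := Subgroup.centralizer ({(g : G)} : Set G) with hC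
  refine ⟨L.relIndex C, ?_, ?_⟩
  · intro h
    apply hp
    have h1 : L.relIndex C ∣ N.relIndex C := Subgroup.relIndex_dvd_of_le_left C hNL
    have h2 : N.relIndex C ∣ N.index := Subgroup.relIndex_dvd_index_of_normal N C
    exact h.trans (h1.trans h2)
  · rw [centralizer_coe_eq L g, ← hC]
    change C.index * _ = C.relIndex L * L.index
    have e1 : (C ⊓ L).index = C.relIndex L * L.index := by
      rw [← Subgroup.inf_relIndex_right C L, Subgroup.relIndex_mul_index inf_le_right]
    have e2 : (C ⊓ L).index = L.relIndex C * C.index := by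
      rw [inf_comm, ← Subgroup.inf_relIndex_right L C, Subgroup.relIndex_mul_index inf_le_right]
    rw [← e1, e2, mul_comm]

end Index

section PB

variable {G : Type u} [Group G] [Finite G] {M : Ideal AlgInt} {p : ℕ}

theorem centralChar_sub (χ : G → ℂ) (g : G) :
    centralChar (fun _ : G => (1 : ℂ)) g - centralChar χ g =
      ((Subgroup.centralizer ({g} : Set G)).index : ℂ) * (1 - χ g / χ 1) := by
  simp only [centralChar]
  ring

/-- Comparison of the block condition on `L` with a condition on `G`. -/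
theorem pb_iff (hM : IsPModular p M) (N L : Subgroup G) [hN : N.Normal] (hNL : N ≤ L)
    (hp : ¬ p ∣ N.index) (g : L) (t : ℂ) :
    MemLocalIdeal M (((Subgroup.centralizer ({g} : Set L)).index : ℂ) * t) ↔
      MemLocalIdeal M (((Subgroup.centralizer ({(g : G)} : Set G)).index : ℂ) * t) := by
  haveI := isPrime_of_pModular hM
  obtain ⟨c, hc, he⟩ := index_relation hM.1 N L hNL hp g
  have hL : ¬ p ∣ L.index := fun h => hp (h.trans (Subgroup.index_dvd_of_le hNL))
  have he' : ((Subgroup.centralizer ({(g : G)} : Set G)).index : ℂ) * c =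
      ((Subgroup.centralizer ({g} : Set L)).index : ℂ) * L.index := by exact_mod_cast he
  have hc0 : (c : ℂ) ≠ 0 := by
    intro h
    have : c = 0 := by exact_mod_cast h
    subst this
    exact hc (dvd_zero _)
  have hL0 : (L.index : ℂ) ≠ 0 := by
    intro h
    have : L.index = 0 := by exact_mod_cast h
    rw [this] at hL
    exact hL (dvd_zero _)
  constructor
  · intro h
    have h1 := memLocalIdeal_mul_left (memLocalRing_natCast (M := M) L.index) h
    have h2 := memLocalIdeal_mul_left (memLocalRing_natCast_inv (M := M) hM hc) h1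
    convert h2 using 1
    rw [eq_inv_mul_iff_mul_eq₀ hc0]
    linear_combination t * he'
  · intro h
    have h1 := memLocalIdeal_mul_left (memLocalRing_natCast (M := M) c) h
    have h2 := memLocalIdeal_mul_left (memLocalRing_natCast_inv (M := M) hM hL) h1
    convert h2 using 1
    rw [eq_inv_mul_iff_mul_eq₀ hL0]
    linear_combination (-t) * he'

/-- Membership in the principal block, as a condition at each element. -/
theorem mem_principalBlock_iff (χ : IrrCharacter G) :
    χ ∈ principalBlock M G ↔ ∀ g : G,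
      MemLocalIdeal M (((Subgroup.centralizer ({g} : Set G)).index : ℂ) *
        (1 - (χ : G → ℂ) g / (χ : G → ℂ) 1)) := by
  change (∀ g, MemLocalIdeal M (_ - _)) ↔ _
  simp only [centralChar_sub]

/-- Membership in the principal block of `L ≥ N`, as a condition on `G`. -/
theorem mem_principalBlock_iff' (hM : IsPModular p M) (N L : Subgroup G) [hN : N.Normal] (hNL : N ≤ L)
    (hp : ¬ p ∣ N.index) (χ : IrrCharacter L) :
    χ ∈ principalBlock M L ↔ ∀ g : L,
      MemLocalIdeal M (((Subgroup.centralizer ({(g : G)} : Set G)).index : ℂ) *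
        (1 - (χ : L → ℂ) g / (χ : L → ℂ) 1)) := by
  rw [mem_principalBlock_iff]
  exact forall_congr' fun g => pb_iff hM N L hNL hp g _

end PB

section Sep

variable {G : Type u} [Group G] [Fintype G] {M : Ideal AlgInt} {p : ℕ}

/-- **Separation**: if `χ` and `χ φ` are both in the principal block, with `φ ∈ Irr (G / N)`, then
`φ` is trivial. -/
theorem phi_eq_one (hM : IsPModular p M) {N P : Subgroup G} [hN : N.Normal]
    (hidx : ¬ p ∣ N.index) (hP : ¬ p ∣ P.index)
    (hsup : N ⊔ Subgroup.centralizer (P : Set G) = ⊤)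
    {χ χ' : IrrCharacter G} (hχ : χ ∈ principalBlock M G) (hχ' : χ' ∈ principalBlock M G)
    {φ : G ⧸ N → ℂ} (hφ : IsIrrCharacter (G ⧸ N) φ)
    (h : (χ' : G → ℂ) = (χ : G → ℂ) * (φ ∘ QuotientGroup.mk' N)) : φ = fun _ => 1 := by
  classical
  haveI := isPrime_of_pModular hM
  rw [mem_principalBlock_iff] at hχ hχ'
  have hdeg : φ 1 = (charDegree φ : ℂ) := (Cfsg.Agent.Lib.Char.Degree.charDegree_natCast (isCharacter_of_isIrrCharacter hφ)).symm
  have hD0 : φ 1 ≠ 0 := irr_one_ne_zero hφ
  have hχ0 : (χ : G → ℂ) 1 ≠ 0 := irr_one_ne_zero χ.2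
  have hint : ∀ a, MemLocalRing M (φ a) := by
    intro a
    exact memLocalRing_of_isIntegral (Cfsg.Agent.Lib.BlockT.NormalP.isIntegral_irr ⟨φ, hφ⟩ a)
  -- the main congruence
  have key : ∀ c ∈ Subgroup.centralizer (P : Set G),
      MemLocalIdeal M (φ 1 - φ (QuotientGroup.mk' N c)) := by
    intro c hc
    have hle : P ≤ Subgroup.centralizer ({c} : Set G) := by
      intro x hx
      rw [Subgroup.mem_centralizer_iff]
      intro y hy
      rw [Set.mem_singleton_iff] at hy
      subst hy
      exact ((Subgroup.mem_centralizer_iff.mp hc) x hx).symm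
    have hi : ¬ p ∣ (Subgroup.centralizer ({c} : Set G)).index :=
      fun h => hP (h.trans (Subgroup.index_dvd_of_le hle))
    set i : ℂ := ((Subgroup.centralizer ({c} : Set G)).index : ℂ) with hidef
    have h1 := hχ c
    have h2 := hχ' c
    rw [h] at h2
    simp only [Pi.mul_apply, Function.comp_apply, map_one] at h2
    have h3 : MemLocalIdeal M (i * (φ 1 - φ (QuotientGroup.mk' N c))) := by
      have h4 := memLocalIdeal_sub (memLocalIdeal_mul_left (hint 1) h2)
        (memLocalIdeal_mul_left (hint (QuotientGroup.mk' N c)) h1)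
      convert h4 using 1
      field_simp
      ring
    have hin : ¬ MemLocalIdeal M i := by
      rw [hidef, natCast_memLocalIdeal_iff hM]
      exact hi
    exact memLocalIdeal_of_mul (memLocalRing_natCast _) hin
      (memLocalRing_sub (hint 1) (hint _)) h3
  -- every element of the quotient is the image of an element of the centralizer
  have hsurj : ∀ a : G ⧸ N, ∃ c ∈ Subgroup.centralizer (P : Set G), QuotientGroup.mk' N c = a := by
    intro a
    obtain ⟨g, rfl⟩ := QuotientGroup.mk'_surjective N a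
    have hg : g ∈ N ⊔ Subgroup.centralizer (P : Set G) := by rw [hsup]; trivial
    rw [← SetLike.mem_coe, Subgroup.normal_mul, Set.mem_mul] at hg
    obtain ⟨n, hn, c, hc, rfl⟩ := hg
    refine ⟨c, hc, ?_⟩
    have h1 : QuotientGroup.mk' N n = 1 := (QuotientGroup.eq_one_iff n).mpr hn
    rw [map_mul, h1, one_mul]
  by_contra hne
  have hone : IsIrrCharacter (G ⧸ N) (fun _ => (1 : ℂ)) := Cfsg.Agent.Lib.Char.Burnside.isIrrCharacter_one
  have h0 := classInner_eq_zero_of_isIrr_of_ne hφ hone hne
  rw [classInner_def] at h0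
  have hcardA : (Nat.card (G ⧸ N) : ℂ) ≠ 0 := by exact_mod_cast Nat.card_pos.ne'
  have h1 : ∑ a : G ⧸ N, φ a = 0 := by
    simpa [hcardA] using h0
  have h2 : MemLocalIdeal M (∑ a : G ⧸ N, (φ 1 - φ a)) := by
    refine memLocalIdeal_sum _ _ fun a _ => ?_
    obtain ⟨c, hc, rfl⟩ := hsurj a
    exact key c hc
  have h3 : (∑ a : G ⧸ N, (φ 1 - φ a)) = ((Nat.card (G ⧸ N) * charDegree φ : ℕ) : ℂ) := by
    rw [Finset.sum_sub_distrib, h1, sub_zero, Finset.sum_const, Finset.card_univ, nsmul_eq_mul, hdeg,
      ← Nat.card_eq_fintype_card]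
    push_cast
    ring
  rw [h3, natCast_memLocalIdeal_iff hM] at h2
  have hcardp : ¬ p ∣ Nat.card (G ⧸ N) := by
    rwa [← Subgroup.index_eq_card]
  rcases (prime_of_pModular hM).dvd_mul.mp h2 with h4 | h4
  · exact hcardp h4
  · exact hcardp (h4.trans (Cfsg.Agent.Lib.Char.Degree.charDegree_dvd_card hφ))

/-- The conclusion. -/
def Res (M : Ideal AlgInt) (G : Type u) [Group G] (N : Subgroup G) : Prop :=
  (∀ χ ∈ principalBlock M G, ∃ θ ∈ principalBlock M ↥N, ∀ n : N, (χ : G → ℂ) n = (θ : N → ℂ) n) ∧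
    ∀ θ ∈ principalBlock M ↥N, ∃! χ : IrrCharacter G, χ ∈ principalBlock M G ∧
      ∀ n : N, (χ : G → ℂ) n = (θ : N → ℂ) n

/-- `1_G` covers `1_N`, so `B₀(N)` is below `B₀(G)`. -/
theorem mem_of_constituent_principal (hM : IsPModular p M) {N : Subgroup G} [hN : N.Normal] [Fintype N]
    {χ : IrrCharacter G} (hχ : χ ∈ principalBlock M G) {θ : IrrCharacter N}
    (hθ : classInner (fun n : N => (χ : G → ℂ) n) (θ : N → ℂ) ≠ 0) : θ ∈ principalBlock M N := by
  classical
  haveI := isPrime_of_pModular hM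
  let oneG : IrrCharacter G := ⟨fun _ => 1, Cfsg.Agent.Lib.Char.Burnside.isIrrCharacter_one⟩
  let oneN : IrrCharacter N := ⟨fun _ => 1, Cfsg.Agent.Lib.Char.Burnside.isIrrCharacter_one⟩
  have hb : IsPBlock M (principalBlock M N) := ⟨oneN, rfl⟩
  have hoN : oneN ∈ principalBlock M N := Cfsg.Agent.Lib.Blocks.Central.mem_blockOf_self oneN
  have hone : classInner (fun n : N => (oneG : G → ℂ) n) (oneN : N → ℂ) ≠ 0 := by
    have h1 : classInner (fun n : N => (oneG : G → ℂ) n) (oneN : N → ℂ) = 1 :=
      classInner_self_of_isIrr oneN.2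
    rw [h1]
    exact one_ne_zero
  have hinv : Cfsg.Agent.Lib.BlockT.Fong.IsInv hN (principalBlock M N) := by
    intro t θ hθ
    have h1 : SameBlock M (fun _ : N => (1 : ℂ)) (θ : N → ℂ) := hθ
    have h2 := Cfsg.Agent.Lib.BlockT.Normal.sameBlock_conjOn hN M t h1
    exact h2
  exact Cfsg.Agent.Lib.BlockT.Fong.mem_of_constituent hN hinv hb (χ := oneG) ⟨oneN, hoN, hone⟩
    (χ' := χ) hχ hθ

/-- If every member of `B₀(N)` has an extension in `B₀(G)`, restriction is a bijection. -/
theorem res_of_exists_ext (hM : IsPModular p M) {N P : Subgroup G} [hN : N.Normal]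
    (hidx : ¬ p ∣ N.index) (hP : ¬ p ∣ P.index)
    (hsup : N ⊔ Subgroup.centralizer (P : Set G) = ⊤)
    (hex : ∀ θ ∈ principalBlock M ↥N, ∃ χ : IrrCharacter G, χ ∈ principalBlock M G ∧
      ∀ n : N, (χ : G → ℂ) n = (θ : N → ℂ) n) : Res M G N := by
  classical
  haveI := isPrime_of_pModular hM
  letI : Fintype N := Fintype.ofFinite N
  -- uniqueness
  have huniq : ∀ (θ : IrrCharacter N) (χ χ' : IrrCharacter G), χ ∈ principalBlock M G →
      χ' ∈ principalBlock M G → (∀ n : N, (χ : G → ℂ) n = (θ : N → ℂ) n) →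
      classInner (fun n : N => (χ' : G → ℂ) n) (θ : N → ℂ) ≠ 0 → χ' = χ := by
    intro θ χ χ' hχ hχ' hres hne
    have hres' : (fun n : N => (χ : G → ℂ) n) = (θ : N → ℂ) := funext hres
    have hirr : IsIrrCharacter N (fun n : N => (χ : G → ℂ) n) := by
      rw [hres']
      exact θ.2
    obtain ⟨φ, hφ, he⟩ := Cfsg.Agent.Lib.CharDeep.GallagherExt.exists_eq_mul_of_classInner_ne_zero N
      (isCharacter_of_isIrrCharacter χ.2) hirr χ'.2 (by rw [hres']; exact hne)
    have h1 := phi_eq_one hM hidx hP hsup hχ hχ' hφ he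
    subst h1
    apply Subtype.ext
    rw [he]
    funext g
    simp
  refine ⟨?_, ?_⟩
  · intro χ hχ
    obtain ⟨θ, hθ⟩ := Cfsg.Agent.Lib.BlockT.NormalP.exists_constituent (N := N) χ
    have hθb := mem_of_constituent_principal hM hχ hθ
    obtain ⟨χ₁, hχ₁, hres⟩ := hex θ hθb
    refine ⟨θ, hθb, ?_⟩
    rw [huniq θ χ₁ χ hχ₁ hχ hres hθ]
    exact hres
  · intro θ hθ
    obtain ⟨χ, hχ, hres⟩ := hex θ hθ
    refine ⟨χ, ⟨hχ, hres⟩, ?_⟩
    rintro χ' ⟨hχ', hres'⟩
    apply huniq θ χ χ' hχ hχ' hres
    have : (fun n : N => (χ' : G → ℂ) n) = (θ : N → ℂ) := funext hres'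
    rw [this, classInner_self_of_isIrr θ.2]
    exact one_ne_zero

end Sep

end Cfsg.Agent.Lib.AlperinDade.Basic
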