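import Cfsg.Agent.Lib.AlperinDade.Abelian

/-!
# Alperin–Dade: restriction of the principal block

`N ⊴ G` of `p'`-index, `G = N C_G(P)`: restriction is a bijection from the principal block of `G` onto the
principal block of `N`.  The solvable case goes by the abelian step; the general one by Brauer's
characterization of characters.
-/

set_option linter.unusedSectionVars false
set_option autoImplicit false
set_option linter.style.haveILetI false

namespace Cfsg.Agent.Lib.AlperinDade.Main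

open Cfsg
open Cfsg.Agent.Lib.Blocks.Local Cfsg.Agent.Lib.AlperinDade.Basic Cfsg.Agent.Lib.AlperinDade.Abelian
open Cfsg.Agent.Lib.BlockH.Transport
open Cfsg.Agent.Lib.Char.Basic Cfsg.Agent.Lib.Char.Ortho Cfsg.Agent.Lib.Char.Complete
open scoped ComplexConjugate commutatorElement

universe u

variable {G : Type u} [Group G] [Fintype G] {M : Ideal AlgInt} {p : ℕ}

/-- The transport of a character of `N` to the copy of `N` in `L`. -/
theorem exists_subgroupOf {N L : Subgroup G} (hNL : N ≤ L) {θ : IrrCharacter N}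
    (hθ : θ ∈ principalBlock M N) :
    ∃ θ' : IrrCharacter (N.subgroupOf L), θ' ∈ principalBlock M (N.subgroupOf L) ∧
      ∀ (n : N), (θ' : N.subgroupOf L → ℂ) ⟨⟨n, hNL n.2⟩, n.2⟩ = (θ : N → ℂ) n := by
  let σ : N.subgroupOf L ≃* N := Subgroup.subgroupOfEquivOfLe hNL
  refine ⟨irrMap σ.symm θ, ?_, ?_⟩
  · have h1 := irrMap_mem_blockMap σ.symm (principalBlock M N) hθ
    rwa [blockMap_principal] at h1
  · intro n
    rfl

/-- Composition of the extension property. -/
theorem ext_of_trans {N L : Subgroup G} (hNL : N ≤ L) {θ : IrrCharacter N}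
    (hθ : θ ∈ principalBlock M N) (h1 : Res M G L) (h2 : Res M L (N.subgroupOf L)) :
    ∃ χ : IrrCharacter G, χ ∈ principalBlock M G ∧ ∀ n : N, (χ : G → ℂ) n = (θ : N → ℂ) n := by
  obtain ⟨θ', hθ', he⟩ := exists_subgroupOf hNL hθ
  obtain ⟨ψ, ⟨hψ, hψe⟩, -⟩ := h2.2 θ' hθ'
  obtain ⟨χ, ⟨hχ, hχe⟩, -⟩ := h1.2 ψ hψ
  refine ⟨χ, hχ, fun n => ?_⟩
  rw [← he n, ← hψe ⟨⟨n, hNL n.2⟩, n.2⟩, ← hχe ⟨n, hNL n.2⟩]

/-- An elementary group is solvable. -/
theorem isSolvable_of_isElementary {E : Type*} [Group E] [Finite E] {p : ℕ} (hp : p.Prime)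
    (hE : IsElementary p E) : Group.IsSolvable E := by
  obtain ⟨x, hx, -, k, hk⟩ := hE
  haveI := Fact.mk hp
  let Z := Subgroup.zpowers x
  have hZ : Z ≤ Subgroup.center E := (Subgroup.zpowers_le).mpr hx
  haveI : Z.Normal := ⟨fun n hn g => by
    have := (Subgroup.mem_center_iff.mp (hZ hn)) g
    rw [this, mul_inv_cancel_right]
    exact hn⟩
  have hpg : IsPGroup p (E ⧸ Z) := IsPGroup.of_card (n := k) (by rw [← hk, Subgroup.index_eq_card])
  haveI : Group.IsNilpotent (E ⧸ Z) := hpg.isNilpotent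
  haveI : Group.IsSolvable (E ⧸ Z) := inferInstance
  haveI : IsMulCommutative Z := ⟨⟨fun a b => Subtype.ext (by
    obtain ⟨i, hi⟩ := Subgroup.mem_zpowers_iff.mp a.2
    obtain ⟨j, hj⟩ := Subgroup.mem_zpowers_iff.mp b.2
    rw [Subgroup.coe_mul, Subgroup.coe_mul, ← hi, ← hj, ← zpow_add, ← zpow_add, add_comm])⟩⟩
  haveI : Group.IsSolvable Z := inferInstance
  exact Group.isSolvable_of_ker_le_range Z.subtype (QuotientGroup.mk' Z) (by
    intro y hy
    rw [MonoidHom.mem_ker] at hy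
    have hy' : y ∈ Z := (QuotientGroup.eq_one_iff y).mp hy
    exact ⟨⟨y, hy'⟩, rfl⟩)

/-- The extension when `G / N` is "far from solvable". -/
theorem ext_of_perfect (hM : IsPModular p M) {N : Subgroup G} [hN : N.Normal]
    (hidx : ¬ p ∣ N.index)
    (hIH : ∀ L : Subgroup G, N ≤ L → L ≠ ⊤ → Res M L (N.subgroupOf L))
    (hns : ∀ K : Subgroup G, Group.IsSolvable K → N ⊔ K ≠ ⊤)
    (θ : IrrCharacter N) (hθ : θ ∈ principalBlock M N) :
    ∃ χ : IrrCharacter G, χ ∈ principalBlock M G ∧ ∀ n : N, (χ : G → ℂ) n = (θ : N → ℂ) n := by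
  classical
  haveI := isPrime_of_pModular hM
  letI : Fintype N := Fintype.ofFinite N
  -- extensions to proper subgroups
  have hex : ∀ (L : Subgroup G) (hNL : N ≤ L), L ≠ ⊤ → ∃ ψ : IrrCharacter L, ψ ∈ principalBlock M L ∧
      ∀ n : N, (ψ : L → ℂ) ⟨n, hNL n.2⟩ = (θ : N → ℂ) n := by
    intro L hNL hL
    obtain ⟨θ', hθ', he⟩ := exists_subgroupOf hNL hθ
    obtain ⟨ψ, ⟨hψ, hψe⟩, -⟩ := (hIH L hNL hL).2 θ' hθ'
    exact ⟨ψ, hψ, fun n => by rw [← he n, ← hψe]⟩
  have huniq : ∀ (L : Subgroup G) (hNL : N ≤ L), L ≠ ⊤ → ∀ ψ ψ' : IrrCharacter L,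
      ψ ∈ principalBlock M L → ψ' ∈ principalBlock M L →
      (∀ n : N, (ψ : L → ℂ) ⟨n, hNL n.2⟩ = (θ : N → ℂ) n) →
      (∀ n : N, (ψ' : L → ℂ) ⟨n, hNL n.2⟩ = (θ : N → ℂ) n) → ψ = ψ' := by
    intro L hNL hL ψ ψ' hψ hψ' h h'
    obtain ⟨θ', hθ', he⟩ := exists_subgroupOf hNL hθ
    refine ExistsUnique.unique ((hIH L hNL hL).2 θ' hθ') ⟨hψ, ?_⟩ ⟨hψ', ?_⟩
    · rintro ⟨⟨n, hn1⟩, hn2⟩
      exact (h ⟨n, hn2⟩).trans (he ⟨n, hn2⟩).symm
    · rintro ⟨⟨n, hn1⟩, hn2⟩
      exact (h' ⟨n, hn2⟩).trans (he ⟨n, hn2⟩).symm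
  choose e he using hex
  -- coherence
  have hcoh : ∀ (L' L : Subgroup G) (h' : N ≤ L') (h : N ≤ L) (hL' : L' ≠ ⊤) (hL : L ≠ ⊤) (hLL : L' ≤ L)
      (x : L'), (e L' h' hL' : L' → ℂ) x = (e L h hL : L → ℂ) ⟨x, hLL x.2⟩ := by
    intro L' L h' h hL' hL hLL x
    have hτc : IsCharacter L' ((e L h hL : L → ℂ) ∘ Subgroup.inclusion hLL) :=
      isCharacter_comp _ (isCharacter_of_isIrrCharacter (e L h hL).2)
    have hτi : IsIrrCharacter L' ((e L h hL : L → ℂ) ∘ Subgroup.inclusion hLL) := by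
      refine Cfsg.Agent.Lib.Char.Extend.isIrrCharacter_of_comp_isIrr (Subgroup.inclusion h') hτc ?_
      have : ((e L h hL : L → ℂ) ∘ Subgroup.inclusion hLL) ∘ Subgroup.inclusion h' = (θ : N → ℂ) := by
        funext n
        exact (he L h hL).2 n
      rw [this]
      exact θ.2
    have hmem : (⟨_, hτi⟩ : IrrCharacter L') ∈ principalBlock M L' := by
      rw [mem_principalBlock_iff' hM N L' h' hidx]
      intro g
      exact (mem_principalBlock_iff' hM N L h hidx _).mp (he L h hL).1 ⟨g, hLL g.2⟩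
    have heq := huniq L' h' hL' ⟨_, hτi⟩ (e L' h' hL') hmem (he L' h' hL').1
      (fun n => (he L h hL).2 n) (he L' h' hL').2
    rw [← heq]
    rfl
  -- the subgroups generated by an element
  let Lg : G → Subgroup G := fun g => N ⊔ Subgroup.zpowers g
  have hLg1 : ∀ g, N ≤ Lg g := fun g => le_sup_left
  have hLg2 : ∀ g, Lg g ≠ ⊤ := fun g => hns _ inferInstance
  have hLgm : ∀ g, g ∈ Lg g := fun g => Subgroup.mem_sup_right (Subgroup.mem_zpowers g)
  let τ : G → ℂ := fun g => (e (Lg g) (hLg1 g) (hLg2 g) : Lg g → ℂ) ⟨g, hLgm g⟩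
  have ht : ∀ (L : Subgroup G) (h : N ≤ L) (hL : L ≠ ⊤) (g : L), τ g = (e L h hL : L → ℂ) g := by
    intro L h hL g
    exact hcoh (Lg g) L (hLg1 g) h (hLg2 g) hL (sup_le h ((Subgroup.zpowers_le).mpr g.2)) ⟨g, hLgm g⟩
  have hτN : ∀ n : N, τ n = (θ : N → ℂ) n := by
    intro n
    rw [ht (Lg n) (hLg1 n) (hLg2 n) ⟨n, hLg1 n n.2⟩]
    exact (he _ _ _).2 n
  -- invariance
  have hinv : ∀ (h : G) (n : N), (θ : N → ℂ) ⟨h * n * h⁻¹, hN.conj_mem n n.2 h⟩ = (θ : N → ℂ) n := by
    intro h n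
    have h1 := isClassFunction_of_isIrrCharacter (e (Lg h) (hLg1 h) (hLg2 h)).2
      ⟨n, hLg1 h n.2⟩ ⟨h, hLgm h⟩
    have h2 := (he (Lg h) (hLg1 h) (hLg2 h)).2 n
    have h3 := (he (Lg h) (hLg1 h) (hLg2 h)).2 ⟨h * n * h⁻¹, hN.conj_mem n n.2 h⟩
    rw [← h2, ← h3, ← h1]
    rfl
  -- class function
  have hcf : IsClassFunction G τ := by
    intro g h
    let L := Lg g
    let σ : L ≃* L.map (MulAut.conj h).toMonoidHom := (MulAut.conj h).subgroupMap L
    have hcoe : ∀ x : L, ((σ x : L.map (MulAut.conj h).toMonoidHom) : G) = h * x * h⁻¹ := fun x => rfl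
    have hN2 : N ≤ L.map (MulAut.conj h).toMonoidHom := by
      intro n hn
      refine ⟨h⁻¹ * n * h, hLg1 g (by simpa using hN.conj_mem n hn h⁻¹), ?_⟩
      simp [mul_assoc]
    have hL2 : L.map (MulAut.conj h).toMonoidHom ≠ ⊤ := by
      intro h2
      apply hLg2 g
      rw [eq_top_iff]
      intro x _
      have hx : h * x * h⁻¹ ∈ L.map (MulAut.conj h).toMonoidHom := by
        rw [h2]
        trivial
      obtain ⟨y, hy, hyx⟩ := hx
      have : y = x := by
        have hyx' : h * y * h⁻¹ = h * x * h⁻¹ := hyx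
        simpa using hyx'
      rwa [← this]
    have hmem : irrMap σ (e L (hLg1 g) (hLg2 g)) ∈ principalBlock M (L.map (MulAut.conj h).toMonoidHom) := by
      have h1 := irrMap_mem_blockMap σ (principalBlock M L) (he L (hLg1 g) (hLg2 g)).1
      rwa [blockMap_principal] at h1
    have hres : ∀ n : N, (irrMap σ (e L (hLg1 g) (hLg2 g)) : L.map (MulAut.conj h).toMonoidHom → ℂ)
        ⟨n, hN2 n.2⟩ = (θ : N → ℂ) n := by
      intro n
      rw [irrMap_apply]
      have hval : ((σ.symm ⟨n, hN2 n.2⟩ : L) : G) = h⁻¹ * n * h := by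
        have h1 : σ (σ.symm ⟨n, hN2 n.2⟩) = ⟨n, hN2 n.2⟩ := σ.apply_symm_apply _
        have h2 := congrArg Subtype.val h1
        rw [hcoe] at h2
        change h * ((σ.symm ⟨n, hN2 n.2⟩ : L) : G) * h⁻¹ = n at h2
        have key : ∀ y n' : G, h * y * h⁻¹ = n' → y = h⁻¹ * n' * h := by
          rintro y _ rfl
          group
        exact key _ _ h2
      have hm : h⁻¹ * (n : G) * h ∈ N := by simpa using hN.conj_mem n n.2 h⁻¹
      have h3 := (he L (hLg1 g) (hLg2 g)).2 ⟨h⁻¹ * n * h, hm⟩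
      have h4 : (σ.symm ⟨n, hN2 n.2⟩ : L) = ⟨h⁻¹ * n * h, hLg1 g hm⟩ := Subtype.ext hval
      rw [h4, h3]
      have h5 := hinv h ⟨h⁻¹ * n * h, hm⟩
      rw [← h5]
      refine congrArg _ (Subtype.ext ?_)
      change h * (h⁻¹ * n * h) * h⁻¹ = (n : G)
      group
    have heq := huniq _ hN2 hL2 _ _ hmem (he _ hN2 hL2).1 hres (he _ hN2 hL2).2
    have h1 := ht _ hN2 hL2 (σ ⟨g, hLgm g⟩)
    rw [← heq, irrMap_apply_map] at h1
    exact h1
  -- Brauer's characterization
  have hgen : IsGeneralizedCharacter G τ := by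
    refine Cfsg.Agent.Lib.Char.Brauer.isGenChar_of_restrict_elementary hcf ?_
    intro E q hq hE
    have hne : N ⊔ E ≠ ⊤ := hns E (isSolvable_of_isElementary hq hE)
    refine ⟨(e (N ⊔ E) le_sup_left hne : (N ⊔ E : Subgroup G) → ℂ) ∘
        Subgroup.inclusion (le_sup_right : E ≤ N ⊔ E), 0,
      isCharacter_comp _ (isCharacter_of_isIrrCharacter (e _ _ _).2), isCharacter_zero, ?_⟩
    funext x
    rw [sub_zero]
    exact ht (N ⊔ E) le_sup_left hne ⟨x, Subgroup.mem_sup_right x.2⟩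
  -- the norm
  have hsum : ∀ g : G, ∑ n : N, τ ((n : G) * g) * conj (τ ((n : G) * g)) = Nat.card N := by
    intro g
    let L := Lg g
    let ψ := e L (hLg1 g) (hLg2 g)
    let σ : N.subgroupOf L ≃* N := Subgroup.subgroupOfEquivOfLe (hLg1 g)
    letI : Fintype (N.subgroupOf L) := Fintype.ofFinite _
    have hres : IsIrrCharacter (N.subgroupOf L) (fun n : N.subgroupOf L => (ψ : L → ℂ) n) := by
      have h1 : (fun n : N.subgroupOf L => (ψ : L → ℂ) n) = (θ : N → ℂ) ∘ σ := by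
        funext n
        exact (he L (hLg1 g) (hLg2 g)).2 (σ n)
      rw [h1]
      exact Cfsg.Agent.Lib.Char.Conj.isIrrCharacter_comp_mulEquiv σ θ.2
    have h1 := Cfsg.Agent.Lib.CharDeep.GallagherExt.eta_self_eq_one (N.subgroupOf L)
      (isCharacter_of_isIrrCharacter ψ.2) hres ⟨g, hLgm g⟩
    rw [Cfsg.Agent.Lib.CharDeep.GallagherExt.eta] at h1
    have hcard : Nat.card (N.subgroupOf L) = Nat.card N := Nat.card_congr σ.toEquiv
    have hc0 : (Nat.card N : ℂ) ≠ 0 := by exact_mod_cast Nat.card_pos.ne'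
    rw [hcard] at h1
    have h2 : ∑ n : N, τ ((n : G) * g) * conj (τ ((n : G) * g)) =
        ∑ n : N.subgroupOf L, (ψ : L → ℂ) ((n : L) * ⟨g, hLgm g⟩) * conj ((ψ : L → ℂ) ((n : L) * ⟨g, hLgm g⟩)) := by
      refine (Fintype.sum_equiv σ.toEquiv _ _ fun n => ?_).symm
      have h3 := ht L (hLg1 g) (hLg2 g) ((n : L) * ⟨g, hLgm g⟩)
      have h4 : (((n : L) * ⟨g, hLgm g⟩ : L) : G) = ((σ n : N) : G) * g := rfl
      rw [h4] at h3
      change _ = τ (((σ n : N) : G) * g) * conj (τ (((σ n : N) : G) * g))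
      rw [h3]
    rw [h2]
    field_simp at h1
    exact h1
  have hnorm : classInner τ τ = 1 := by
    rw [classInner_def, Cfsg.Agent.Lib.CharDeep.GallagherExt.sum_eq_avg N]
    simp only [hsum, Finset.sum_const, Finset.card_univ, nsmul_eq_mul, ← Nat.card_eq_fintype_card]
    have hc0 : (Nat.card N : ℂ) ≠ 0 := by exact_mod_cast Nat.card_pos.ne'
    have hG0 : (Nat.card G : ℂ) ≠ 0 := by exact_mod_cast Nat.card_pos.ne'
    field_simp
  have hτ1 : τ 1 = (θ : N → ℂ) 1 := hτN 1
  have hpos : 0 < (τ 1).re := by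
    rw [hτ1, ← Cfsg.Agent.Lib.Char.Degree.charDegree_natCast (isCharacter_of_isIrrCharacter θ.2),
      Complex.natCast_re]
    exact_mod_cast Cfsg.Agent.Lib.Char.Degree.charDegree_pos θ.2
  have hirr : IsIrrCharacter G τ :=
    Cfsg.Agent.Lib.Frobenius.Theorem.isIrrCharacter_of_generalized hgen hnorm hpos
  refine ⟨⟨τ, hirr⟩, ?_, hτN⟩
  rw [mem_principalBlock_iff]
  intro g
  have h1 := (mem_principalBlock_iff' hM N (Lg g) (hLg1 g) hidx _).mp (he (Lg g) (hLg1 g) (hLg2 g)).1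
    ⟨g, hLgm g⟩
  have h2 : (e (Lg g) (hLg1 g) (hLg2 g) : Lg g → ℂ) 1 = (θ : N → ℂ) 1 := (he _ _ _).2 1
  rw [h2, ← hτ1] at h1
  exact h1

/-- The hypotheses pass to intermediate subgroups. -/
theorem sup_subgroupOf {N P L : Subgroup G} [hN : N.Normal] (hNL : N ≤ L)
    (hsup : N ⊔ Subgroup.centralizer (P : Set G) = ⊤) :
    N.subgroupOf L ⊔ Subgroup.centralizer ((P.subgroupOf L : Subgroup L) : Set L) = ⊤ := by
  rw [eq_top_iff]
  rintro ⟨l, hl⟩ -
  have hg : l ∈ N ⊔ Subgroup.centralizer (P : Set G) := by rw [hsup]; trivial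
  rw [← SetLike.mem_coe, Subgroup.normal_mul, Set.mem_mul] at hg
  obtain ⟨n, hn, c, hc, rfl⟩ := hg
  have hcL : c ∈ L := by
    have := L.mul_mem (L.inv_mem (hNL hn)) hl
    simpa using this
  have hmul : (⟨n * c, hl⟩ : L) = ⟨n, hNL hn⟩ * ⟨c, hcL⟩ := rfl
  rw [hmul]
  refine Subgroup.mul_mem _ (Subgroup.mem_sup_left ?_) (Subgroup.mem_sup_right ?_)
  · exact hn
  · rw [Subgroup.mem_centralizer_iff]
    intro x hx
    apply Subtype.ext
    exact (Subgroup.mem_centralizer_iff.mp hc) x hx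

/-- **Alperin–Dade**, by induction on the index. -/
theorem main_res (hM : IsPModular p M) : ∀ (k : ℕ) (G : Type u) [Group G] [Fintype G]
    (N P : Subgroup G) [N.Normal], N.index = k → P ≤ N → ¬ p ∣ P.index →
    N ⊔ Subgroup.centralizer (P : Set G) = ⊤ → Res M G N := by
  intro k
  induction k using Nat.strong_induction_on with
  | _ k ih =>
  intro G _ _ N P hN hk hPN hP hsup
  have hidx : ¬ p ∣ N.index := fun h => hP (h.trans (Subgroup.index_dvd_of_le hPN))
  by_cases hcomm : ∀ a b : G ⧸ N, a * b = b * a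
  · exact res_of_exists_ext hM hidx hP hsup fun θ hθ => ext_of_abelian hM hidx hP hsup hcomm θ hθ
  -- the induction hypothesis on proper subgroups
  have hIH : ∀ L : Subgroup G, N ≤ L → L ≠ ⊤ → Res M L (N.subgroupOf L) := by
    intro L hNL hL
    classical
    letI : Fintype L := Fintype.ofFinite L
    have e1 : N.relIndex L * L.index = N.index := Subgroup.relIndex_mul_index hNL
    have e2 : 1 < L.index := by
      have h0 : L.index ≠ 0 := Subgroup.index_ne_zero_of_finite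
      have h1 : L.index ≠ 1 := fun h => hL (Subgroup.index_eq_one.mp h)
      omega
    have hNi : 0 < N.index := Nat.pos_of_ne_zero Subgroup.index_ne_zero_of_finite
    have hlt : (N.subgroupOf L).index < k := by
      rw [← hk]
      change N.relIndex L < _
      rw [← e1]
      have h0 : 0 < N.relIndex L := by
        rw [Subgroup.relIndex]
        exact Nat.pos_of_ne_zero Subgroup.index_ne_zero_of_finite
      nlinarith
    refine ih _ hlt L (N.subgroupOf L) (P.subgroupOf L) rfl ?_ ?_ (sup_subgroupOf hNL hsup)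
    · intro x hx
      exact hPN hx
    · intro h
      apply hP
      have e3 : P.relIndex L * L.index = P.index := Subgroup.relIndex_mul_index (hPN.trans hNL)
      rw [← e3]
      exact Dvd.dvd.mul_right h _
  let L : Subgroup G := N ⊔ commutator G
  have hNL : N ≤ L := le_sup_left
  haveI hLn : L.Normal := Subgroup.sup_normal _ _
  by_cases hL : L = ⊤
  · refine res_of_exists_ext hM hidx hP hsup fun θ hθ => ext_of_perfect hM hidx hIH ?_ θ hθ
    intro K hK hNK
    apply hcomm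
    let A := G ⧸ N
    let f : K →* A := (QuotientGroup.mk' N).comp K.subtype
    have hf : Function.Surjective f := by
      intro a
      obtain ⟨g, rfl⟩ := QuotientGroup.mk'_surjective N a
      have hg : g ∈ N ⊔ K := by rw [hNK]; trivial
      rw [← SetLike.mem_coe, Subgroup.normal_mul, Set.mem_mul] at hg
      obtain ⟨n, hn, c, hc, rfl⟩ := hg
      refine ⟨⟨c, hc⟩, ?_⟩
      have h1 : QuotientGroup.mk' N n = 1 := (QuotientGroup.eq_one_iff n).mpr hn
      change QuotientGroup.mk' N c = _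
      rw [map_mul, h1, one_mul]
    haveI : Group.IsSolvable A := Group.isSolvable_of_surjective hf
    have hcom : commutator A = ⊤ := by
      have h1 : (L.map (QuotientGroup.mk' N)) = ⊤ := by
        rw [hL, Subgroup.map_top_of_surjective _ (QuotientGroup.mk'_surjective N)]
      have h2 : L.map (QuotientGroup.mk' N) = commutator A := by
        rw [Subgroup.map_sup, QuotientGroup.map_mk'_self, bot_sup_eq, map_commutator_eq,
          MonoidHom.range_eq_top.mpr (QuotientGroup.mk'_surjective N)]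
        rfl
      rw [← h2, h1]
    by_cases hnt : Nontrivial A
    · exact absurd hcom (Group.IsSolvable.commutator_lt_top_of_nontrivial A).ne
    · rw [not_nontrivial_iff_subsingleton] at hnt
      intro a b
      exact Subsingleton.elim _ _
  · have hcommL : ∀ a b : G ⧸ L, a * b = b * a := by
      intro a b
      obtain ⟨x, rfl⟩ := QuotientGroup.mk'_surjective L a
      obtain ⟨y, rfl⟩ := QuotientGroup.mk'_surjective L b
      rw [← map_mul, ← map_mul]
      change ((x * y : G) : G ⧸ L) = ((y * x : G) : G ⧸ L)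
      rw [QuotientGroup.eq]
      have h1 : (x * y)⁻¹ * (y * x) = ⁅y⁻¹, x⁻¹⁆ := by
        simp only [commutatorElement_def, inv_inv]
        group
      rw [h1]
      exact Subgroup.mem_sup_right (Subgroup.commutator_mem_commutator (Subgroup.mem_top _) (Subgroup.mem_top _))
    have hsupL : L ⊔ Subgroup.centralizer (P : Set G) = ⊤ := by
      rw [eq_top_iff, ← hsup]
      exact sup_le_sup_right hNL _
    have hidxL : ¬ p ∣ L.index := fun h => hP (h.trans (Subgroup.index_dvd_of_le (hPN.trans hNL)))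
    have h1 : Res M G L := res_of_exists_ext hM hidxL hP hsupL fun θ hθ =>
      ext_of_abelian hM hidxL hP hsupL hcommL θ hθ
    exact res_of_exists_ext hM hidx hP hsup fun θ hθ => ext_of_trans hNL hθ h1 (hIH L hNL hL)

end Cfsg.Agent.Lib.AlperinDade.Main
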